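import Groth.Agent.SemiAbLib.Basic
import Groth.Agent.S11995

/-! Homomorphisms from tori to abelian varieties are trivial. -/

set_option autoImplicit false
set_option backward.isDefEq.respectTransparency false
set_option linter.style.haveILetI false
set_option maxHeartbeats 1000000
set_option synthInstance.maxHeartbeats 400000
universe u
open CategoryTheory CategoryTheory.Limits CategoryTheory.MonoidalCategory CategoryTheory.CartesianMonoidalCategory
open CategoryTheory.MonObj AlgebraicGeometry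
open GrpObj AlgGrp

noncomputable section

namespace Groth.Agent.SemiAbLib

variable {K : Type u} [Field K] (r : ℕ)

/-- The product of the coordinates. -/
def prodCoord : Γ(𝔸(ULift.{u} (Fin r); Spec (CommRingCat.of K)), ⊤) :=
  ∏ i, AffineSpace.coord (Spec (CommRingCat.of K)) i

/-- A split torus is an open subscheme of affine space. -/
theorem exists_iso_open :
    ∃ φ : (𝔸(ULift.{u} (Fin r); Spec (CommRingCat.of K)).basicOpen (prodCoord (K := K) r)).toScheme ⟶
        (Red.DS (Spec (CommRingCat.of K)) (Fin r → ℤ)).left,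
      IsIso φ ∧ φ ≫ (Red.DS (Spec (CommRingCat.of K)) (Fin r → ℤ)).hom =
        (𝔸(ULift.{u} (Fin r); Spec (CommRingCat.of K)).basicOpen (prodCoord (K := K) r)).ι ≫
          (𝔸(ULift.{u} (Fin r); Spec (CommRingCat.of K)) ↘ Spec (CommRingCat.of K)) := by
  classical
  let U := 𝔸(ULift.{u} (Fin r); Spec (CommRingCat.of K)).basicOpen (prodCoord (K := K) r)
  let R := MonoidAlgebra (ULift.{u} ℤ) (Multiplicative (Fin r → ℤ))
  let D := Red.DS (Spec (CommRingCat.of K)) (Fin r → ℤ)
  let p : D.left ⟶ Spec (CommRingCat.of R) := pullback.fst _ _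
  let hU : U.toScheme ⟶ Spec (CommRingCat.of K) := U.ι ≫ (𝔸(ULift.{u} (Fin r); Spec (CommRingCat.of K)) ↘ Spec (CommRingCat.of K))
  let x : ULift.{u} (Fin r) → Γ(U.toScheme, ⊤) := fun i => U.ι.appTop (AffineSpace.coord (Spec (CommRingCat.of K)) i)
  have hx : IsUnit (∏ i, x i) := by
    have h1 : ∏ i, x i = U.ι.appTop (prodCoord (K := K) r) := (map_prod U.ι.appTop.hom _ _).symm
    rw [h1]
    have h2 : U.ι ⁻¹ᵁ U = ⊤ := U.ι_preimage_self
    have h3 : U.toScheme.basicOpen (U.ι.appTop (prodCoord (K := K) r)) = ⊤ := by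
      rw [← Scheme.preimage_basicOpen_top]
      exact h2
    have h4 := U.toScheme.toRingedSpace.isUnit_res_basicOpen (U.ι.appTop (prodCoord (K := K) r))
    have : ∀ (W : U.toScheme.Opens) (_ : W = ⊤) (i : W ⟶ ⊤),
        IsUnit (U.toScheme.presheaf.map i.op (U.ι.appTop (prodCoord (K := K) r))) →
          IsUnit (U.ι.appTop (prodCoord (K := K) r)) := by
      rintro W rfl i hi
      rwa [show i = 𝟙 _ from Subsingleton.elim _ _, op_id, CategoryTheory.Functor.map_id] at hi
    exact this _ h3 _ h4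
  have hxi : ∀ i, IsUnit (x i) := fun i => isUnit_of_dvd_unit (Finset.dvd_prod_of_mem x (Finset.mem_univ i)) hx
  let θ : Multiplicative (Fin r → ℤ) →* Γ(U.toScheme, ⊤) :=
    { toFun := fun m => ((∏ i : Fin r, ((hxi (ULift.up i)).unit) ^ (m.toAdd i) : (Γ(U.toScheme, ⊤))ˣ) : Γ(U.toScheme, ⊤))
      map_one' := by simp
      map_mul' := fun a b => by
        rw [← Units.val_mul, ← Finset.prod_mul_distrib]
        simp [zpow_add] }
  let ψ : R →+* Γ(U.toScheme, ⊤) :=
    MonoidAlgebra.liftNCRingHom ((Int.castRingHom _).comp (ULift.ringEquiv (R := ℤ)).toRingHom) θ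
      fun _ _ => Commute.all _ _
  let φ : U.toScheme ⟶ D.left :=
    pullback.lift (U.toScheme.toSpecΓ ≫ Spec.map (CommRingCat.ofHom ψ)) hU (specULiftZIsTerminal.hom_ext _ _)
  let gen : ULift.{u} (Fin r) → Γ(D.left, ⊤) := fun i =>
    p.appTop ((Scheme.ΓSpecIso (CommRingCat.of R)).inv
      (MonoidAlgebra.single (Multiplicative.ofAdd (Pi.single i.down (1 : ℤ))) (1 : ULift.{u} ℤ)))
  let m : D.left ⟶ 𝔸(ULift.{u} (Fin r); Spec (CommRingCat.of K)) := AffineSpace.homOfVector D.hom gen
  have hgen : ∀ i, IsUnit (gen i) := fun i => by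
    refine IsUnit.map p.appTop.hom (IsUnit.map (Scheme.ΓSpecIso (CommRingCat.of R)).inv.hom ?_)
    exact (Group.isUnit _).map (MonoidAlgebra.of (ULift.{u} ℤ) (Multiplicative (Fin r → ℤ)))
  have hrange : Set.range m ⊆ Set.range U.ι := by
    rw [Scheme.Opens.range_ι]
    rintro _ ⟨z, rfl⟩
    have h1 : m ⁻¹ᵁ U = ⊤ := by
      rw [Scheme.preimage_basicOpen_top]
      refine Scheme.basicOpen_of_isUnit _ ?_
      show IsUnit (m.appTop.hom (prodCoord (K := K) r))
      rw [prodCoord, map_prod, IsUnit.prod_univ_iff]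
      intro i
      show IsUnit (m.appTop _)
      rw [AffineSpace.homOfVector_appTop_coord]
      exact hgen i
    show z ∈ m ⁻¹ᵁ U
    rw [h1]
    trivial
  let n : D.left ⟶ U.toScheme := IsOpenImmersion.lift U.ι m hrange
  have hn : n ≫ U.ι = m := IsOpenImmersion.lift_fac _ _ _
  have hφgen : ∀ i, φ.appTop (gen i) = x i := fun i => by
    show (p.appTop ≫ φ.appTop) _ = _
    rw [← Scheme.Hom.comp_appTop, pullback.lift_fst]
    simp only [Scheme.Hom.comp_appTop, Scheme.toSpecΓ_appTop]
    rw [Scheme.ΓSpecIso_naturality, CommRingCat.comp_apply]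
    erw [Iso.inv_hom_id_apply]
    show ψ _ = _
    rw [show ∀ a, ψ (MonoidAlgebra.single a 1) = θ a from fun a => by simp [ψ, MonoidAlgebra.liftNCRingHom]]
    show ((∏ j : Fin r, ((hxi (ULift.up j)).unit) ^ ((Pi.single i.down (1 : ℤ) : Fin r → ℤ) j) :
      (Γ(U.toScheme, ⊤))ˣ) : Γ(U.toScheme, ⊤)) = _
    rw [Finset.prod_eq_single i.down (fun j _ hj => by rw [Pi.single_eq_of_ne hj, zpow_zero])
      (fun h => absurd (Finset.mem_univ _) h), Pi.single_eq_same, zpow_one]
    rfl
  refine ⟨φ, ⟨n, ?_, ?_⟩, pullback.lift_snd _ _ _⟩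
  · rw [← cancel_mono U.ι, Category.assoc, hn, Category.id_comp]
    refine AffineSpace.hom_ext ?_ fun i => ?_
    · rw [Category.assoc, AffineSpace.homOfVector_over]
      exact pullback.lift_snd _ _ _
    · rw [Scheme.Hom.comp_appTop, CommRingCat.comp_apply, AffineSpace.homOfVector_appTop_coord]
      exact hφgen i
  · have hnx : ∀ i, n.appTop (x i) = gen i := fun i => by
      show (U.ι.appTop ≫ n.appTop) _ = _
      rw [← Scheme.Hom.comp_appTop, hn, AffineSpace.homOfVector_appTop_coord]
    apply pullback.hom_ext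
    · rw [Category.assoc, pullback.lift_fst, Category.id_comp]
      haveI : IsAffine (Red.diag (ULift.{u} ℤ) (Fin r → ℤ)).left := inferInstanceAs (IsAffine (Spec (CommRingCat.of R)))
      refine ext_of_isAffine ?_
      rw [Scheme.Hom.comp_appTop, Scheme.Hom.comp_appTop, Scheme.toSpecΓ_appTop]
      rw [← cancel_epi (Scheme.ΓSpecIso (CommRingCat.of R)).inv]
      rw [Scheme.ΓSpecIso_naturality, Category.assoc, Iso.inv_hom_id_assoc]
      apply CommRingCat.hom_ext
      refine MonoidAlgebra.ringHom_ext (fun c => ?_) fun a => ?_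
      · exact RingHom.congr_fun (RingHom.ext_int (((n.appTop.hom.comp ψ).comp MonoidAlgebra.singleOneRingHom).comp
          (ULift.ringEquiv (R := ℤ)).symm.toRingHom)
          ((((Scheme.ΓSpecIso (CommRingCat.of R)).inv ≫ p.appTop).hom.comp MonoidAlgebra.singleOneRingHom).comp
          (ULift.ringEquiv (R := ℤ)).symm.toRingHom)) c.down
      · let f₁ : Multiplicative (Fin r → ℤ) →* Γ(D.left, ⊤) := (n.appTop.hom.comp ψ).toMonoidHom.comp (MonoidAlgebra.of _ _)
        let f₂ : Multiplicative (Fin r → ℤ) →* Γ(D.left, ⊤) :=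
          ((Scheme.ΓSpecIso (CommRingCat.of R)).inv ≫ p.appTop).hom.toMonoidHom.comp (MonoidAlgebra.of _ _)
        suffices hf : f₁.toHomUnits = f₂.toHomUnits by
          exact congrArg Units.val (DFunLike.congr_fun hf a)
        have key : ∀ j : Fin r, f₁.toHomUnits (Multiplicative.ofAdd (Pi.single j 1)) =
            f₂.toHomUnits (Multiplicative.ofAdd (Pi.single j 1)) := fun j => by
          apply Units.ext
          show n.appTop (ψ (MonoidAlgebra.single _ 1)) = gen ⟨j⟩
          rw [← hnx ⟨j⟩, ← hφgen ⟨j⟩]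
          congr 1
          show _ = (p.appTop ≫ φ.appTop) _
          rw [← Scheme.Hom.comp_appTop, pullback.lift_fst]
          simp only [Scheme.Hom.comp_appTop, Scheme.toSpecΓ_appTop]
          rw [Scheme.ΓSpecIso_naturality, CommRingCat.comp_apply]
          erw [Iso.inv_hom_id_apply]
          rfl
        apply MonoidHom.toAdditiveRight.injective
        apply AddMonoidHom.functions_ext
        intro j c
        rw [show (Pi.single j c : Fin r → ℤ) = c • Pi.single j 1 by rw [← Pi.single_smul']; simp, map_zsmul, map_zsmul]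
        exact congrArg (c • ·) (congrArg Additive.ofMul (key j))
    · rw [Category.assoc, pullback.lift_snd, Category.id_comp]
      show n ≫ U.ι ≫ _ = _
      rw [reassoc_of% hn, AffineSpace.homOfVector_over]
      rfl

/-- Homomorphisms from split tori to abelian varieties are trivial. -/
theorem hom_DS_eq_one {A : Over (Spec (CommRingCat.of K))} [GrpObj A] [IsProper A.hom] [GeometricallyIntegral A.hom]
    (f : Red.DS (Spec (CommRingCat.of K)) (Fin r → ℤ) ⟶ A)
    (h : (1 : 𝟙_ (Over (Spec (CommRingCat.of K))) ⟶ Red.DS (Spec (CommRingCat.of K)) (Fin r → ℤ)) ≫ f = 1) :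
    f = 1 := by
  obtain ⟨φ, hiso, hφ⟩ := exists_iso_open (K := K) r
  haveI := geometricallyIntegral_DS (Spec (CommRingCat.of K)) r
  haveI : Smooth (𝔸(ULift.{u} (Fin r); Spec (CommRingCat.of K)) ↘ Spec (CommRingCat.of K)) :=
    WittHomLib.smooth_affineSpace _ _
  haveI : Smooth (φ ≫ (Red.DS (Spec (CommRingCat.of K)) (Fin r → ℤ)).hom) := by rw [hφ]; infer_instance
  haveI : Smooth (Red.DS (Spec (CommRingCat.of K)) (Fin r → ℤ)).hom :=
    (MorphismProperty.cancel_left_of_respectsIso @Smooth φ _).1 this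
  haveI : IsAffineHom (Red.DS (Spec (CommRingCat.of K)) (Fin r → ℤ)).hom := FixedSmooth.isAffineHom_DS _ _
  haveI : Subsingleton ↥(Spec (CommRingCat.of K)) := inferInstanceAs (Subsingleton (PrimeSpectrum K))
  haveI : IsIntegral (Red.DS (Spec (CommRingCat.of K)) (Fin r → ℤ)).left :=
    GeometricallyIntegral.isIntegral_of_subsingleton (Red.DS (Spec (CommRingCat.of K)) (Fin r → ℤ)).hom
  obtain ⟨a, ha⟩ := S11995.result K (Red.DS (Spec (CommRingCat.of K)) (Fin r → ℤ)) A (ULift.{u} (Fin r)) _
    (by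
      haveI := hiso
      obtain ⟨z⟩ := (inferInstance : Nonempty (Red.DS (Spec (CommRingCat.of K)) (Fin r → ℤ)).left)
      exact ⟨_, ((inv φ) z).2⟩) φ hφ
    (by haveI := hiso; exact φ.surjective.denseRange) f
  have h1 : a = 1 := by
    rw [← h, ha, ← Category.assoc, toUnit_unique (_ ≫ toUnit _) (𝟙 _), Category.id_comp]
  rw [ha, h1, MonObj.comp_one]

/-- Homomorphisms from tori to abelian varieties over a field are trivial. -/
theorem hom_torus_eq_one {k : Type u} [Field k] {T A : Over (Spec (CommRingCat.of k))} [GrpObj T] [GrpObj A]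
    [IsProper A.hom] [GeometricallyIntegral A.hom] (hT : Red.IsTorus T) (f : T ⟶ A) [IsMonHom f] : f = 1 := by
  obtain ⟨K, _, g, r, ⟨e₁⟩⟩ := exists_split hT
  haveI : IsProper ((Over.pullback g).obj A).hom := inferInstanceAs (IsProper (pullback.snd A.hom g))
  haveI : GeometricallyIntegral ((Over.pullback g).obj A).hom :=
    inferInstanceAs (GeometricallyIntegral (pullback.snd A.hom g))
  haveI : IsMonHom e₁.inv.hom.hom := e₁.inv.hom.isMonHom_hom
  have h1 : e₁.inv.hom.hom ≫ (Over.pullback g).map f = 1 := by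
    refine hom_DS_eq_one r _ ?_
    rw [← Category.assoc, MonObj.one_comp]
    exact MonObj.one_comp ((Over.pullback g).map f)
  haveI : Surjective g := ⟨fun _ => ⟨default, Subsingleton.elim (α := PrimeSpectrum k) _ _⟩⟩
  haveI : Flat g := inferInstance
  refine CurveRigid.hom_ext_of_bc g ?_
  rw [Functor.map_one, ← Category.id_comp ((Over.pullback g).map f),
    ← (show e₁.hom.hom.hom ≫ e₁.inv.hom.hom = 𝟙 _ from congrArg (fun t => t.hom.hom) e₁.hom_inv_id),
    Category.assoc, h1, MonObj.comp_one]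

end Groth.Agent.SemiAbLib
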